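import Cfsg.Agent.H916.RG.Pair
import Cfsg.Agent.H273.PiSpor.RowJ3
import Cfsg.Agent.H898.J3Cent
import Cfsg.Agent.H305.OddJ3
import Cfsg.Agent.H296.JT.Five
import Cfsg.Agent.H31.RC.Spor.Gen

/-!
# S3509, the row `J₃` (helper388)

* `dead_two` : an involution `t` with model `2₋^{1+4}.A₅` and a commuting element of odd prime order;
* `OT x t`, `ot_of`, `dead_out` : an outer involution `x` fixing the involution `t`;
* `odd17`, `frat17`, `exists_two`, `dead_outer` : an outer involution and an element `y` of odd prime order: the closure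
  of `y` in `C(x)` contains an involution, because `C(x)` contains an element of order 17 and a nonabelian 2-group;
* `dead_odd` : elements of orders 3 and 5;
* `rc_j3` : the row.
-/

set_option autoImplicit false
set_option linter.unusedSectionVars false
set_option linter.unusedVariables false

namespace Cfsg.Agent.H388.RG.JThree

open Subgroup Cfsg Cfsg.Agent.H106.RC Cfsg.Agent.H916.RG
open Cfsg.Agent.J2Type.Model Cfsg.Agent.J2Type.CStruct Cfsg.Agent.J3Type.OneClass Cfsg.Agent.KFacts.J3Sheet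
open Cfsg.Agent.KFacts Cfsg.Agent.H273.PiSpor.J3Out

section gen

variable {A : Type*} [Group A] {N H : Subgroup A} {a b c : A}

/-- the second member may be replaced by any element of the normal closure in the centraliser of the first one -/
theorem pc_cl (h : PC N H a b) {w : A} (hw : w ∈ closure {y | ∃ n ∈ N, n * a = a * n ∧ y = n * b * n⁻¹}) :
    PC N H a w := by
  refine closure_induction (p := fun y _ => PC N H a y) ?_ ?_ ?_ ?_ hw
  · rintro _ ⟨n, hn, hc, rfl⟩
    exact h.conj_right hn hc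
  · intro s _
    right
    simp
  · intro x y _ _ hx hy
    exact hx.mul_right hy
  · intro x _ hx
    exact hx.inv_right

/-- generic form of the second certificate -/
theorem dead_cl (hN : Nice N) (ha : a ≠ 1) (hw : a ∈ closure {y | ∃ n ∈ N, n * a = a * n ∧ y = n * b * n⁻¹}) :
    Dead N a b := fun H hH hP => hN.absurd hH ha (pc_cl hP hw)

theorem dead_mv {w : A} (hw : w ∈ closure {y | ∃ n ∈ N, n * a = a * n ∧ y = n * b * n⁻¹}) (h : Dead N a w) :
    Dead N a b := fun H hH hP => h H hH (pc_cl hP hw)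

end gen

section two

variable {K : Type*} [Group K]

theorem ne_one_of_order {g : K} {n : ℕ} (hg : orderOf g = n) (hn : n ≠ 1) : g ≠ 1 := by
  rintro rfl
  rw [orderOf_one] at hg
  exact hn hg.symm

/-- an element of odd prime order of the centraliser of `z` moves some `v i` -/
theorem exists_moved {z : K} {Q : Subgroup (centralizer ({z} : Set K))} {v : Fin 5 → centralizer ({z} : Set K)}
    {ρ : centralizer ({z} : Set K) →* SP} (M : IsModel Q (zc z) v ρ) {r : ℕ} (hr : r.Prime) (hr2 : r ≠ 2)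
    {y : centralizer ({z} : Set K)} (hy : orderOf y = r) : (ρ y).σ ≠ 1 := by
  intro h1
  have h2 : ρ (y * y) = 1 := by
    rw [map_mul]
    apply SP.ext
    · rw [mul_σ, h1, one_mul]; rfl
    · funext i
      rw [mul_s, h1]
      exact CharTwo.add_self_eq_zero _
  have h3 : (y * y) * (y * y) = 1 := by
    rcases (M.ker _).1 h2 with h | h
    · rw [h, one_mul]
    · rw [h, M.z_sq]
  have h4 : orderOf y ∣ 4 := orderOf_dvd_of_pow_eq_one (by rw [show y ^ 4 = (y * y) * (y * y) by rw [← pow_two, ← pow_two, ← pow_mul], h3])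
  rw [hy] at h4
  have h5 : r ∣ 2 := hr.dvd_of_dvd_pow (n := 2) (by simpa using h4)
  exact hr2 ((Nat.prime_dvd_prime_iff_eq hr Nat.prime_two).1 h5)

/-- **an involution and an element of odd prime order** -/
theorem dead_two (hS : IsSimpleGroup K) (hSn : ¬ IsMulCommutative K) {t y : K} (hM : HasModel t) {r : ℕ}
    (hr : r.Prime) (hr2 : r ≠ 2) (hy : orderOf y = r) (hty : t * y = y * t) : Dead (⊤ : Subgroup K) t y := by
  obtain ⟨ht, hC, Q, v, ρ, M⟩ := hM
  intro H hH hP
  set y' : centralizer ({t} : Set K) := ⟨y, mem_centralizer_singleton_iff.2 hty.symm⟩ with hy'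
  have hy'o : orderOf y' = r := by rw [← hy]; exact Subgroup.orderOf_mk _ _
  have hσ := exists_moved M hr hr2 hy'o
  obtain ⟨i, hi⟩ : ∃ i, (ρ y').σ i ≠ i := by
    by_contra hcon
    push Not at hcon
    exact hσ (Equiv.ext hcon)
  have hn : ∀ c : centralizer ({t} : Set K), (c : K) * t = t * c := fun c => mem_centralizer_singleton_iff.1 c.2
  have h1 := hP.mul_right (hP.inv_right.conj_right (mem_top (v i : K)) (hn (v i)))
  -- `w = y (v i y⁻¹ v i⁻¹)`
  have e1 : y' * (v i * y'⁻¹ * (v i)⁻¹) = zp (zc t) ((ρ y').s i) * v ((ρ y').σ i) * v i := by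
    have h3 := M.conj y' i
    have h4 : (v i)⁻¹ = v i := inv_eq_of_mul_eq_one_left (M.v_sq i)
    rw [h4, ← h3]
    group
  have e1' : y * (v i * y⁻¹ * (v i : K)⁻¹) = ((zp (zc t) ((ρ y').s i) * v ((ρ y').σ i) * v i :
      centralizer ({t} : Set K)) : K) := by
    rw [← e1]
    rfl
  rw [e1'] at h1
  set w := zp (zc t) ((ρ y').s i) * v ((ρ y').σ i) * v i with hw
  have h2 := h1.comm_right (mem_top (v i : K)) (hn (v i)) 1
  rw [pow_one] at h2
  have e2 : w⁻¹ * (v i * w * (v i)⁻¹) = zc t := by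
    have h4 : (v i)⁻¹ = v i := inv_eq_of_mul_eq_one_left (M.v_sq i)
    have h5 : v i * w * (v i)⁻¹ = zc t * w := by
      have hzc : v i * zp (zc t) ((ρ y').s i) = zp (zc t) ((ρ y').s i) * v i := by
        rcases zmod2_cases ((ρ y').s i) with h | h
        · rw [h, zp_zero, mul_one, one_mul]
        · rw [h, zp_one, M.z_comm]
      have hzc2 : zc t * zp (zc t) ((ρ y').s i) = zp (zc t) ((ρ y').s i) * zc t := M.z_comm _ |>.symm
      rw [hw, h4]
      calc v i * (zp (zc t) ((ρ y').s i) * v ((ρ y').σ i) * v i) * v i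
          = (v i * zp (zc t) ((ρ y').s i)) * v ((ρ y').σ i) * (v i * v i) := by group
        _ = zp (zc t) ((ρ y').s i) * (v i * v ((ρ y').σ i)) := by rw [hzc, M.v_sq]; group
        _ = zp (zc t) ((ρ y').s i) * (zc t * (v ((ρ y').σ i) * v i)) := by rw [M.v_anti i _ (Ne.symm hi)]
        _ = (zc t * zp (zc t) ((ρ y').s i)) * v ((ρ y').σ i) * v i := by rw [hzc2]; group
        _ = zc t * (zp (zc t) ((ρ y').s i) * v ((ρ y').σ i) * v i) := by group
    rw [h5, ← M.z_comm w]
    group
  have e2' : (w : K)⁻¹ * ((v i : K) * w * (v i : K)⁻¹) = t := congrArg Subtype.val e2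
  rw [e2'] at h2
  exact (nice_top hS hSn).absurd hH (ne_one_of_order ht (by norm_num)) h2

end two

section outer

set_option synthInstance.maxHeartbeats 200000 in
set_option synthInstance.maxSize 1000 in
theorem perm_type : ∀ σ : Equiv.Perm (Fin 5), ∀ s : Fin 5 → ZMod 2, σ * σ = 1 → Equiv.Perm.sign σ = -1 →
    (∀ i, s i + s (σ i) = 0) → s 0 + s 1 + s 2 + s 3 + s 4 = 1 →
    (∃ i, σ i = i ∧ s i = 1) ∧ ((∃ i j, i ≠ j ∧ (σ i = i ∧ s i = 0) ∧ (σ j = j ∧ s j = 0)) ∨
      ∃ i j k, i ≠ j ∧ i ≠ k ∧ j ≠ k ∧ (σ i = i ∧ s i = 1) ∧ (σ j = j ∧ s j = 1) ∧ (σ k = k ∧ s k = 1)) := by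
  decide +kernel

theorem perm_five : ∀ σ τ : Equiv.Perm (Fin 5), σ ^ 5 = 1 → τ * τ = 1 → Equiv.Perm.sign τ = -1 → σ * τ = τ * σ →
    σ = 1 := by decide +kernel

variable {K : Type*} [Group K]

/-- the data of an outer involution fixing the involution `z` -/
structure OT (x : MulAut K) (z : K) : Prop where
  fix : x z = z
  ne : z ≠ 1
  sq : z * z = 1
  neg : ∃ c : K, c * z = z * c ∧ x c = z * c
  pair : ∃ a b : K, x a = a ∧ x b = b ∧ a * b = z * (b * a)
  five : ∀ y : K, y * z = z * y → orderOf y = 5 → x y ≠ y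

theorem ot_of_facts [Finite K] {z : K} {Q : Subgroup (centralizer ({z} : Set K))} {v : Fin 5 → centralizer ({z} : Set K)}
    {ρ : centralizer ({z} : Set K) →* SP} {n : K} {u : centralizer ({z} : Set K)}
    (F : Cfsg.Agent.KFacts.J3.Facts z Q v ρ n u) {x : MulAut K} (hx : x * x = 1)
    (hxo : x ∉ (MulAut.conj : K →* MulAut K).range) (hxz : x z = z) : OT x z := by
  have M := F.model
  have hc := F.card_C
  have hin : n * z * n⁻¹ ∈ Q.map (centralizer ({z} : Set K)).subtype := by rw [F.nz]; exact ⟨v 0, M.v_mem 0, rfl⟩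
  have hnz : n * z * n⁻¹ ≠ z := by
    rw [F.nz]
    intro h
    apply zv_ne_z M 0 0
    rw [zp_zero, one_mul]; exact Subtype.ext h
  obtain ⟨g, hg⟩ := exists_ty hc M hxz
  have hgg : g * g = 1 := by
    have h2 := hg.mul M hg
    rw [hx] at h2
    exact h2.unique M Ty.one
  have hsg : Equiv.Perm.sign g.σ = -1 := by
    apply int_sign
    intro h2
    obtain ⟨k, hk⟩ := inner_of_even hc M hin hnz F.gen hg.1 (hg.permOf M) h2
    exact hxo ⟨k, hk.symm⟩
  have hσ : g.σ * g.σ = 1 := by rw [← mul_σ, hgg]; rfl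
  have hs : ∀ i, g.s i + g.s (g.σ i) = 0 := by
    intro i
    have h2 := congrArg (fun h : SP => h.s i) hgg
    exact h2
  obtain ⟨⟨i, hi, hsi⟩, hp⟩ := perm_type g.σ g.s hσ hsg hs (hg.sum M hsg)
  have e0 : ∀ i, g.σ i = i → g.s i = 0 → x (v i : K) = v i := by
    intro i h1 h2
    rw [hg.2 i, h1, h2, zp_zero, one_mul]
  have e1 : ∀ i, g.σ i = i → g.s i = 1 → x (v i : K) = z * v i := by
    intro i h1 h2
    rw [hg.2 i, h1, h2, zp_one]; rfl
  have anti : ∀ i j, i ≠ j → (v i : K) * v j = z * (v j * v i) := fun i j hij => congrArg Subtype.val (M.v_anti i j hij)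
  have hzz : z * z = 1 := zz M
  have hvv : ∀ i, (v i : K) * v i = 1 := fun i => congrArg Subtype.val (M.v_sq i)
  have hvz : ∀ i, (v i : K) * z = z * v i := fun i => vz (v i)
  refine ⟨hxz, fun h => M.z_ne (Subtype.ext h), hzz, ⟨v i, hvz i, e1 i hi hsi⟩, ?_, ?_⟩
  · rcases hp with ⟨i, j, hij, ⟨h1, h2⟩, h3, h4⟩ | ⟨i, j, k, hij, hik, hjk, ⟨h1, h2⟩, ⟨h3, h4⟩, h5, h6⟩
    · exact ⟨v i, v j, e0 i h1 h2, e0 j h3 h4, anti i j hij⟩
    · have f1 := e1 i h1 h2
      have f2 := e1 j h3 h4
      have f3 := e1 k h5 h6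
      have key : ∀ i j : Fin 5, x (v i : K) = z * v i → x (v j : K) = z * v j → x ((v i : K) * v j) = v i * v j := by
        intro i j h1 h2
        rw [map_mul, h1, h2]
        calc z * (v i : K) * (z * v j) = z * ((v i : K) * z) * v j := by group
          _ = (z * z) * (v i * v j) := by rw [hvz i]; group
          _ = v i * v j := by rw [hzz, one_mul]
      refine ⟨v i * v j, v j * v k, key i j f1 f2, key j k f2 f3, ?_⟩
      have a1 : (v i : K) * v j * (v j * v k) = v i * v k := by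
        calc (v i : K) * v j * (v j * v k) = v i * ((v j : K) * v j) * v k := by group
          _ = v i * v k := by rw [hvv, mul_one]
      have a2 : (v j : K) * v k * (v i * v j) = v k * v i := by
        calc (v j : K) * v k * (v i * v j) = v j * v k * (z * (v j * v i)) := by rw [anti i j hij]
          _ = v j * ((v k : K) * z) * (v j * v i) := by group
          _ = (v j : K) * z * (v k * v j) * v i := by rw [hvz k]; group
          _ = z * v j * (z * (v j * v k)) * v i := by rw [hvz j, anti k j (Ne.symm hjk)]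
          _ = z * ((v j : K) * z) * v j * v k * v i := by group
          _ = (z * z) * ((v j : K) * v j) * v k * v i := by rw [hvz j]; group
          _ = v k * v i := by rw [hzz, hvv, one_mul, one_mul]
      rw [a1, a2]
      exact anti i k hik
  · intro y hyz hy hxy
    set c : centralizer ({z} : Set K) := ⟨y, mem_centralizer_singleton_iff.2 hyz⟩ with hcdef
    have hc5 : orderOf c = 5 := by rw [← hy]; exact Subgroup.orderOf_mk _ _
    have h1 := hg.cj M c
    have h2 : Cfsg.Agent.H216.Pi.cj x (c : K) = x := by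
      unfold Cfsg.Agent.H216.Pi.cj
      rw [← map_inv]
      ext a
      show y * x (y⁻¹ * a * y⁻¹⁻¹) * y⁻¹ = x a
      rw [map_mul, map_mul, map_inv, map_inv, map_inv, hxy]
      group
    rw [h2] at h1
    have h3 := h1.unique M hg
    have h4 : ρ c * g = g * ρ c := by
      rw [mul_inv_eq_iff_eq_mul] at h3
      exact h3
    have h5 : (ρ c).σ * g.σ = g.σ * (ρ c).σ := by rw [← mul_σ, h4, mul_σ]
    have h6 : (ρ c).σ ^ 5 = 1 := by
      have h7 : ∀ k : ℕ, (ρ c ^ k).σ = (ρ c).σ ^ k := by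
        intro k
        induction k with
        | zero => rfl
        | succ k ih => rw [pow_succ, pow_succ, mul_σ, ih]
      have h8 : c ^ 5 = 1 := by rw [← hc5]; exact pow_orderOf_eq_one c
      rw [← h7, ← map_pow, h8, map_one]
      rfl
    exact exists_moved M (by norm_num) (by norm_num) hc5 (perm_five _ _ h6 hσ hsg h5)

/-- the fixed points -/
def fx (x : MulAut K) : Subgroup K where
  carrier := {c | x c = c}
  mul_mem' := by
    intro a b ha hb
    show x (a * b) = a * b
    rw [map_mul, show x a = a from ha, show x b = b from hb]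
  one_mem' := map_one x
  inv_mem' := by
    intro a ha
    show x a⁻¹ = a⁻¹
    rw [map_inv, show x a = a from ha]

theorem mem_fx {x : MulAut K} {c : K} : c ∈ fx x ↔ x c = c := Iff.rfl

theorem cj_apply (x : MulAut K) (k a : K) :
    (MulAut.conj k * x * (MulAut.conj k)⁻¹) (MulAut.conj k a) = MulAut.conj k (x a) := by
  rw [MulAut.mul_apply, MulAut.mul_apply, MulAut.inv_apply_self]

theorem OT.conj {x : MulAut K} {z : K} (h : OT x z) (k : K) :
    OT (MulAut.conj k * x * (MulAut.conj k)⁻¹) (MulAut.conj k z) := by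
  have hap := cj_apply x k
  refine ⟨by rw [hap, h.fix], ?_, by rw [← map_mul, h.sq, map_one], ?_, ?_, ?_⟩
  · intro h1
    exact h.ne ((MulAut.conj k).injective (h1.trans (map_one _).symm))
  · obtain ⟨c, h1, h2⟩ := h.neg
    exact ⟨MulAut.conj k c, by rw [← map_mul, h1, map_mul], by rw [hap, h2, map_mul]⟩
  · obtain ⟨a, b, h1, h2, h3⟩ := h.pair
    exact ⟨MulAut.conj k a, MulAut.conj k b, by rw [hap, h1], by rw [hap, h2], by rw [← map_mul, h3, map_mul, map_mul]⟩
  · intro y hyz hy hxy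
    obtain ⟨w, rfl⟩ := (MulAut.conj k).surjective y
    rw [hap] at hxy
    refine h.five w ((MulAut.conj k).injective (by rw [map_mul, map_mul, hyz])) ?_ ((MulAut.conj k).injective hxy)
    rw [← hy]
    exact (orderOf_injective (MulAut.conj k).toMonoidHom (MulAut.conj k).injective w).symm

theorem conj_not_inner {x : MulAut K} (hxo : x ∉ (MulAut.conj : K →* MulAut K).range) (k : K) :
    MulAut.conj k * x * (MulAut.conj k)⁻¹ ∉ (MulAut.conj : K →* MulAut K).range := by
  intro h
  apply hxo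
  have h2 : x = (MulAut.conj k)⁻¹ * (MulAut.conj k * x * (MulAut.conj k)⁻¹) * MulAut.conj k := by group
  rw [h2]
  exact mul_mem (mul_mem (inv_mem ⟨_, rfl⟩) h) ⟨_, rfl⟩

theorem ot_of [Finite K] (h : Spor.IsoJ3 K) {x : MulAut K} (hx : x * x = 1)
    (hxo : x ∉ (MulAut.conj : K →* MulAut K).range) {t : K} (ht : orderOf t = 2) (hxt : x t = t) : OT x t := by
  obtain ⟨-, z, Q, v, ρ, n, u, F⟩ := KFacts.J3.exists_facts h
  obtain ⟨k, hk⟩ := F.one t (ne_one_of_order ht (by norm_num)) (by rw [← pow_two, ← ht, pow_orderOf_eq_one])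
  have e : MulAut.conj k⁻¹ = (MulAut.conj k)⁻¹ := map_inv _ _
  set x' : MulAut K := MulAut.conj k⁻¹ * x * (MulAut.conj k⁻¹)⁻¹ with hx'
  have h1 : x' z = z := by
    have h2 : z = MulAut.conj k⁻¹ t := by
      show z = k⁻¹ * t * k⁻¹⁻¹
      rw [← hk]; group
    conv_lhs => rw [h2]
    rw [hx', cj_apply, hxt, ← h2]
  have h2 : OT x' z := ot_of_facts F (by
    rw [hx']
    calc MulAut.conj k⁻¹ * x * (MulAut.conj k⁻¹)⁻¹ * (MulAut.conj k⁻¹ * x * (MulAut.conj k⁻¹)⁻¹)
        = MulAut.conj k⁻¹ * (x * x) * (MulAut.conj k⁻¹)⁻¹ := by group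
      _ = 1 := by rw [hx]; group) (conj_not_inner hxo _) h1
  have h3 := h2.conj k
  have h4 : MulAut.conj k * x' * (MulAut.conj k)⁻¹ = x := by
    rw [hx', e]; group
  have h5 : MulAut.conj k z = t := hk
  rw [h4, h5] at h3
  exact h3

theorem nice_inn (hS : IsSimpleGroup K) (hSn : ¬ IsMulCommutative K) : Nice (MulAut.conj : K →* MulAut K).range := by
  have hinj := conj_injective hS hSn
  refine ⟨⟨?_⟩, ?_, ?_⟩
  · rintro _ ⟨s, rfl⟩ a
    refine ⟨a s, ?_⟩
    ext t
    simp [MulAut.conj_apply]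
  · have : Nontrivial (MulAut.conj : K →* MulAut K).range := (MonoidHom.ofInjective hinj).symm.toEquiv.nontrivial
    exact IsSimpleGroup.isSimpleGroup_of_surjective (MonoidHom.ofInjective hinj).toMonoidHom
      (MonoidHom.ofInjective hinj).surjective
  · intro x hx
    ext s
    apply hinj
    have h1 := hx (MulAut.conj s) ⟨s, rfl⟩
    show MulAut.conj (x s) = MulAut.conj s
    have h2 : MulAut.conj (x s) = x * MulAut.conj s * x⁻¹ := by
      ext t
      simp [MulAut.conj_apply]
    rw [h2, ← h1]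
    group

/-- **an outer involution and an involution** -/
theorem dead_out (hS : IsSimpleGroup K) (hSn : ¬ IsMulCommutative K) {x : MulAut K} (hx : x * x = 1) {t : K}
    (o : OT x t) : Dead (MulAut.conj : K →* MulAut K).range x (MulAut.conj t) := by
  apply Dead.symm
  obtain ⟨c, hct, hxc⟩ := o.neg
  have hne : MulAut.conj t ≠ 1 := by
    intro h1
    exact o.ne (conj_injective hS hSn (h1.trans (map_one _).symm))
  refine dead1 (nice_inn hS hSn) hne (n := MulAut.conj c) ⟨c, rfl⟩ (by rw [← map_mul, hct, map_mul]) 1 ?_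
  rw [pow_one]
  have hxi : x⁻¹ = x := inv_eq_of_mul_eq_one_left hx
  have hxx : ∀ a, x (x a) = a := fun a => by rw [← MulAut.mul_apply, hx]; rfl
  rw [hxi]
  ext a
  rw [← map_inv]
  show x (c * x (c⁻¹ * a * c⁻¹⁻¹) * c⁻¹) = t * a * t⁻¹
  have htt : t⁻¹ = t := inv_eq_of_mul_eq_one_left o.sq
  rw [map_mul, map_mul, map_inv, hxx, hxc, inv_inv, mul_inv_rev]
  calc t * c * (c⁻¹ * a * c) * (c⁻¹ * t⁻¹) = t * a * t⁻¹ := by group

end outer

section odd

variable {K : Type*} [Group K]

/-- a subgroup of the group and the centralizer -/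
theorem card_cent_sub [Finite K] {Y : Subgroup K} {w : Y} {p : ℕ} (hp : p.Prime) (hw : orderOf w = p)
    (hc : Nat.card (centralizer ({(w : K)} : Set K)) = p) : Nat.card (centralizer ((zpowers w : Subgroup Y) : Set Y)) = p := by
  rw [Cfsg.Agent.H898.J3Cent.centralizer_zpowers]
  have h1 : p ∣ Nat.card (centralizer ({w} : Set Y)) := by
    have h3 : orderOf (⟨w, mem_centralizer_singleton_iff.2 rfl⟩ : ↥(centralizer ({w} : Set Y))) = p := by
      rw [Subgroup.orderOf_mk, hw]
    rw [← h3]; exact orderOf_dvd_natCard _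
  have h2 : Nat.card (centralizer ({w} : Set Y)) ≤ p := by
    rw [← hc]
    refine Nat.card_le_card_of_injective (fun c : centralizer ({w} : Set Y) => (⟨((c : Y) : K), by
      rw [mem_centralizer_singleton_iff]
      exact congrArg Subtype.val (mem_centralizer_singleton_iff.1 c.2)⟩ : centralizer ({(w : K)} : Set K))) ?_
    intro a b hab
    exact Subtype.ext (Subtype.ext (congrArg (fun u : centralizer ({(w : K)} : Set K) => (u : K)) hab))
  have h3 : 0 < Nat.card (centralizer ({w} : Set Y)) := Nat.card_pos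
  exact le_antisymm h2 (Nat.le_of_dvd h3 h1)

theorem arith_odd : ∀ a ∈ Nat.divisors 243, ∀ b ∈ Nat.divisors 95, a * b % 17 = 1 → a * b = 1 ∨ a * b = 171 := by
  decide +kernel

/-- a subgroup of order prime to 34 normalised by an element of order 17 is trivial -/
theorem odd17 [Finite K] (h : Spor.IsoJ3 K) {z : K} (hz : orderOf z = 17) {Y : Subgroup K} (h2 : ¬ 2 ∣ Nat.card Y)
    (h17 : ¬ 17 ∣ Nat.card Y) (hn : ∀ u ∈ Y, z * u * z⁻¹ ∈ Y) : Y = ⊥ := by
  classical
  obtain ⟨-, hcK, -⟩ := Cfsg.Agent.H898.J3Cent.base h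
  have f17 : Fact (Nat.Prime 17) := ⟨by norm_num⟩
  have := Fintype.ofFinite Y
  obtain ⟨hz1, hz2⟩ := Cfsg.Agent.H898.J3Cent.seventeen h hz
  -- the congruence
  let f : Function.End Y := fun u => ⟨z * u * z⁻¹, hn u u.2⟩
  have hf : ∀ k : ℕ, ∀ u : Y, ((f ^ k) u : Y) = z ^ k * (u : K) * (z ^ k)⁻¹ := by
    intro k
    induction k with
    | zero =>
      intro u
      show (u : K) = z ^ 0 * u * (z ^ 0)⁻¹
      rw [pow_zero]; group
    | succ k ih =>
      intro u
      rw [pow_succ]
      show (((f ^ k) (f u) : Y) : K) = _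
      rw [ih]
      show z ^ k * (z * u * z⁻¹) * (z ^ k)⁻¹ = _
      rw [pow_succ]; group
  have hmod : Nat.card Y % 17 = 1 := by
    have h3 := Equiv.Perm.card_fixedPoints_modEq (f := f) (p := 17) (n := 1) (by
      funext u
      apply Subtype.ext
      rw [pow_one, hf, ← hz, pow_orderOf_eq_one]
      show 1 * (u : K) * 1⁻¹ = u
      group)
    have h4 : Fintype.card f.fixedPoints = 1 := by
      rw [Fintype.card_eq_one_iff]
      refine ⟨⟨1, Subtype.ext (by show z * 1 * z⁻¹ = 1; group)⟩, ?_⟩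
      rintro ⟨u, hu⟩
      apply Subtype.ext
      apply Subtype.ext
      have h5 : z * (u : K) * z⁻¹ = u := congrArg Subtype.val hu
      show (u : K) = 1
      have h6 : (u : K) ∈ centralizer ({z} : Set K) := by
        rw [mem_centralizer_singleton_iff]
        rw [mul_inv_eq_iff_eq_mul] at h5
        exact h5.symm
      have h7 : orderOf (u : K) ∣ 17 := by
        rw [← hz1]
        have := orderOf_dvd_natCard (⟨(u : K), h6⟩ : centralizer ({z} : Set K))
        rwa [Subgroup.orderOf_mk] at this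
      rcases (Nat.dvd_prime f17.out).1 h7 with h8 | h8
      · exact orderOf_eq_one_iff.1 h8
      · exfalso
        apply h17
        rw [← h8, Subgroup.orderOf_coe]
        exact orderOf_dvd_natCard u
    rw [h4] at h3
    rw [Nat.card_eq_fintype_card]
    exact h3
  have hd : Nat.card Y ∣ 243 * 95 := by
    have h3 : Nat.card Y ∣ 2 ^ 7 * (17 * (243 * 95)) := by
      have h4 := Subgroup.card_subgroup_dvd_card Y
      rw [hcK] at h4
      exact h4
    have h4 := (Nat.Coprime.pow_right 7 ((Nat.coprime_comm.1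
      ((Nat.Prime.coprime_iff_not_dvd Nat.prime_two).2 h2)))).dvd_of_dvd_mul_left h3
    exact (Nat.coprime_comm.1 ((Nat.Prime.coprime_iff_not_dvd f17.out).2 h17)).dvd_of_dvd_mul_left h4
  obtain ⟨m1, m2, hm1, hm2, hm⟩ := (Nat.dvd_mul).1 hd
  rcases arith_odd m1 (Nat.mem_divisors.2 ⟨hm1, by norm_num⟩) m2 (Nat.mem_divisors.2 ⟨hm2, by norm_num⟩)
    (by rw [hm]; exact hmod) with h3 | h3 <;> rw [hm] at h3
  · exact Subgroup.card_eq_one.1 h3
  exfalso
  have f19 : Fact (Nat.Prime 19) := ⟨by norm_num⟩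
  obtain ⟨w, hw⟩ := exists_prime_orderOf_dvd_card' (G := Y) 19 (by rw [h3]; norm_num)
  have hwK : orderOf (w : K) = 19 := by rw [Subgroup.orderOf_coe, hw]
  have hcw := card_cent_sub f19.out hw (Cfsg.Agent.H898.J3Cent.card_nineteen h hwK)
  obtain ⟨n, k, hn', hk, h4, h5⟩ := Cfsg.Agent.H836.Sylow.card_normalizer (G := Y) (p := 19) (X := zpowers w) f19.out
    (by rw [h3]; norm_num) (by rw [Nat.card_zpowers, hw])
  rw [hcw, h3] at h4
  have hkn : k * n = 9 := by
    have : 19 * (k * n) = 19 * 9 := by rw [← mul_assoc, ← h4]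
    omega
  have hk9 : k = 9 := by
    have h6 : n ∣ 9 := ⟨k, by rw [← hkn, mul_comm]⟩
    have h7 : n ≤ 9 := Nat.le_of_dvd (by norm_num) h6
    have h8 : n = 1 := by omega
    rw [h8, mul_one] at hkn
    exact hkn
  rw [hcw, hk9] at h5
  have hNtop : normalizer ((zpowers w : Subgroup Y) : Set Y) = ⊤ := by
    apply Subgroup.eq_top_of_card_eq
    rw [h5, h3]
  -- the elements of order 19 of `Y`
  have hall : ∀ u : Y, orderOf u = 19 → u ∈ zpowers w := by
    intro u hu
    by_contra hcon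
    have hnm : (zpowers w).Normal := normalizer_eq_top_iff.1 hNtop
    -- `19 ^ 2` divides the order
    let q := QuotientGroup.mk' (zpowers w)
    have h6 : orderOf (q u) = 19 := by
      rw [orderOf_eq_prime_iff]
      refine ⟨by rw [← map_pow, ← hu, pow_orderOf_eq_one, map_one], ?_⟩
      intro h7
      exact hcon ((QuotientGroup.eq_one_iff u).1 h7)
    have h7 : 19 ∣ Nat.card (Y ⧸ zpowers w) := by rw [← h6]; exact orderOf_dvd_natCard _
    have h8 := Subgroup.card_eq_card_quotient_mul_card_subgroup (zpowers w)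
    rw [h3, Nat.card_zpowers, hw] at h8
    obtain ⟨m, hm⟩ := h7
    rw [hm] at h8
    omega
  -- `z` normalises `⟨w⟩`
  have hzw : z * (w : K) * z⁻¹ ∈ zpowers (w : K) := by
    have h6 : orderOf (f w) = 19 := by
      rw [← Subgroup.orderOf_coe]
      show orderOf (z * (w : K) * z⁻¹) = 19
      rw [← hwK]
      exact orderOf_injective (MulAut.conj z).toMonoidHom (MulAut.conj z).injective (w : K)
    obtain ⟨j, hj⟩ := Subgroup.mem_zpowers_iff.1 (hall _ h6)
    refine Subgroup.mem_zpowers_iff.2 ⟨j, ?_⟩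
    have h7 := congrArg Subtype.val hj
    rw [Subgroup.coe_zpow] at h7
    exact h7
  have hzN : z ∈ normalizer ((zpowers (w : K) : Subgroup K) : Set K) := by
    have hle : (zpowers (w : K)).map (MulAut.conj z).toMonoidHom ≤ zpowers (w : K) := by
      rw [MonoidHom.map_zpowers, zpowers_le]
      exact hzw
    have heq : (zpowers (w : K)).map (MulAut.conj z).toMonoidHom = zpowers (w : K) := by
      apply Subgroup.eq_of_le_of_card_ge hle
      rw [Subgroup.card_map_of_injective (MulAut.conj z).injective]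
    rw [mem_normalizer_iff]
    intro u
    constructor
    · intro hu
      rw [← heq]
      exact ⟨u, hu, rfl⟩
    · intro hu
      rw [← heq] at hu
      obtain ⟨u', hu', e⟩ := hu
      have : u' = u := (MulAut.conj z).injective e
      rw [← this]
      exact hu'
  have h6 := orderOf_dvd_natCard (⟨z, hzN⟩ : normalizer ((zpowers (w : K) : Subgroup K) : Set K))
  rw [Subgroup.orderOf_mk, hz, Cfsg.Agent.H898.J3Cent.card_normalizer_nineteen h hwK] at h6
  norm_num at h6

/-- Frattini: `L` modulo a normal subgroup `Y` of order divisible by 17 is commutative -/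
theorem frat17 [Finite K] (h : Spor.IsoJ3 K) {L Y : Subgroup K} (hYL : Y ≤ L) (hnm : ∀ n ∈ L, ∀ u ∈ Y, n * u * n⁻¹ ∈ Y)
    (h17 : 17 ∣ Nat.card Y) {a b t : K} (ha : a ∈ L) (hb : b ∈ L) (hab : a * b = t * (b * a)) : t ∈ Y := by
  obtain ⟨-, hcK, -⟩ := Cfsg.Agent.H898.J3Cent.base h
  have f17 : Fact (Nat.Prime 17) := ⟨by norm_num⟩
  let Z : Subgroup L := Y.subgroupOf L
  have hZn : Z.Normal := ⟨fun u hu n => hnm n n.2 u hu⟩
  have hZc : Nat.card Z = Nat.card Y := Nat.card_congr (Subgroup.subgroupOfEquivOfLe hYL).toEquiv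
  obtain ⟨w, hw⟩ := exists_prime_orderOf_dvd_card' (G := Z) 17 (by rw [hZc]; exact h17)
  have hwK : orderOf ((w : L) : K) = 17 := by rw [Subgroup.orderOf_coe, Subgroup.orderOf_coe, hw]
  have hZd : ¬ 17 ^ 2 ∣ Nat.card Z := by
    intro hd
    have h1 := hd.trans (hZc ▸ Subgroup.card_subgroup_dvd_card Y)
    rw [hcK] at h1
    norm_num at h1
  have hPg : IsPGroup 17 (zpowers w) := IsPGroup.of_card (n := 1) (by rw [Nat.card_zpowers, hw, pow_one])
  obtain ⟨P, hPle⟩ := hPg.exists_le_sylow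
  have hPeq : zpowers w = (P : Subgroup Z) := by
    apply Subgroup.eq_of_le_of_card_ge hPle
    rw [Nat.card_zpowers, hw]
    obtain ⟨m, hm⟩ := IsPGroup.iff_card.1 P.2
    have h1 : m < 2 := by
      by_contra hlt
      apply hZd
      have : 17 ^ 2 ∣ 17 ^ m := pow_dvd_pow 17 (by omega)
      rw [← hm] at this
      exact this.trans (Subgroup.card_subgroup_dvd_card _)
    rw [hm]
    calc 17 ^ m ≤ 17 ^ 1 := Nat.pow_le_pow_right (by norm_num) (by omega)
      _ = 17 := by norm_num
  have hfr := P.normalizer_sup_eq_top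
  rw [← hPeq] at hfr
  have hmap : (zpowers w).map Z.subtype = zpowers (w : L) := by
    rw [MonoidHom.map_zpowers]; rfl
  rw [hmap] at hfr
  -- the quotient
  let q := QuotientGroup.mk' Z
  have hrep : ∀ c : L, ∃ n ∈ normalizer ((zpowers (w : L) : Subgroup L) : Set L), q n = q c := by
    intro c
    have hc : c ∈ normalizer ((zpowers (w : L) : Subgroup L) : Set L) ⊔ Z := by rw [hfr]; trivial
    rw [← SetLike.mem_coe, Subgroup.mul_normal] at hc
    obtain ⟨n, hn, u, hu, rfl⟩ := Set.mem_mul.1 hc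
    refine ⟨n, hn, ?_⟩
    rw [map_mul, show q u = 1 from (QuotientGroup.eq_one_iff u).2 hu, mul_one]
  have hconj : ∀ n ∈ normalizer ((zpowers (w : L) : Subgroup L) : Set L), ∃ i : ℤ, n * (w : L) * n⁻¹ = (w : L) ^ i := by
    intro n hn
    have h1 := (mem_normalizer_iff.1 hn (w : L)).1 (mem_zpowers _)
    obtain ⟨i, hi⟩ := Subgroup.mem_zpowers_iff.1 h1
    exact ⟨i, hi.symm⟩
  obtain ⟨n, hn, hna⟩ := hrep ⟨a, ha⟩
  obtain ⟨m, hm, hmb⟩ := hrep ⟨b, hb⟩
  obtain ⟨i, hi⟩ := hconj n hn
  obtain ⟨j, hj⟩ := hconj m hm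
  have hcomm : (n * m) * (w : L) * (n * m)⁻¹ = (m * n) * (w : L) * (m * n)⁻¹ := by
    calc (n * m) * (w : L) * (n * m)⁻¹ = n * (m * w * m⁻¹) * n⁻¹ := by group
      _ = (n * w * n⁻¹) ^ j := by rw [hj, conj_zpow]
      _ = (w : L) ^ (i * j) := by rw [hi, zpow_mul]
      _ = (m * w * m⁻¹) ^ i := by rw [hj, ← zpow_mul, mul_comm]
      _ = m * (n * w * n⁻¹) * m⁻¹ := by rw [hi, conj_zpow]
      _ = (m * n) * (w : L) * (m * n)⁻¹ := by group
  have hd : ((m * n)⁻¹ * (n * m)) * (w : L) = (w : L) * ((m * n)⁻¹ * (n * m)) := by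
    calc ((m * n)⁻¹ * (n * m)) * (w : L) = (m * n)⁻¹ * ((n * m) * (w : L) * (n * m)⁻¹) * (n * m) := by group
      _ = (m * n)⁻¹ * ((m * n) * (w : L) * (m * n)⁻¹) * (n * m) := by rw [hcomm]
      _ = _ := by group
  -- the commutator is in `⟨w⟩`
  set d : L := (m * n)⁻¹ * (n * m) with hdd
  have hdK : (d : K) ∈ centralizer ({((w : L) : K)} : Set K) := by
    rw [mem_centralizer_singleton_iff]
    exact congrArg Subtype.val hd
  have hzc : zpowers ((w : L) : K) = centralizer ({((w : L) : K)} : Set K) := by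
    apply Subgroup.eq_of_le_of_card_ge
    · rw [zpowers_le, mem_centralizer_singleton_iff]
    · rw [(Cfsg.Agent.H898.J3Cent.seventeen h hwK).1, Nat.card_zpowers, hwK]
  rw [← hzc] at hdK
  have hdZ : d ∈ Z := by
    have h1 : zpowers ((w : L) : K) ≤ Y := by
      rw [zpowers_le]
      exact w.2
    exact h1 hdK
  have h1 : q d = 1 := (QuotientGroup.eq_one_iff d).2 hdZ
  have h2 : q ⟨a, ha⟩ * q ⟨b, hb⟩ = q ⟨b, hb⟩ * q ⟨a, ha⟩ := by
    rw [hdd, map_mul, map_inv, map_mul, map_mul, inv_mul_eq_one] at h1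
    rw [← hna, ← hmb, ← h1]
  have htL : t ∈ L := by
    have : t = a * b * (b * a)⁻¹ := by rw [hab]; group
    rw [this]
    exact mul_mem (mul_mem ha hb) (inv_mem (mul_mem hb ha))
  have h3 : q ⟨t, htL⟩ = 1 := by
    have h4 : (⟨a, ha⟩ : L) * ⟨b, hb⟩ = ⟨t, htL⟩ * (⟨b, hb⟩ * ⟨a, ha⟩) := Subtype.ext hab
    have h5 := congrArg q h4
    rw [map_mul, map_mul, map_mul, h2] at h5
    exact (mul_eq_right.1 h5.symm)
  exact (QuotientGroup.eq_one_iff (⟨t, htL⟩ : L)).1 h3

end odd

section fixed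

variable {K : Type*} [Group K]

/-- `MulAut K` modulo the inner automorphisms -/
theorem sq_inner (hi : (MulAut.conj : K →* MulAut K).range.index = 2) (β : MulAut K) :
    β * β ∈ (MulAut.conj : K →* MulAut K).range := Subgroup.mul_self_mem_of_index_two hi β

/-- elements of odd order are inner -/
theorem inner_of_odd (hi : (MulAut.conj : K →* MulAut K).range.index = 2) {β : MulAut K} (h : Odd (orderOf β)) :
    β ∈ (MulAut.conj : K →* MulAut K).range := by
  obtain ⟨k, hk⟩ := h
  have h1 : β = ((β * β) ^ (k + 1)) := by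
    rw [← pow_two, ← pow_mul, show 2 * (k + 1) = 2 * k + 1 + 1 by ring, pow_succ, ← hk, pow_orderOf_eq_one, one_mul]
  rw [h1]
  exact pow_mem (sq_inner hi β) _

theorem exists_fix17 [Finite K] (h : Spor.IsoJ3 K) {x : MulAut K} (hx : orderOf x = 2)
    (hxo : x ∉ (MulAut.conj : K →* MulAut K).range) : ∃ w : K, orderOf w = 17 ∧ x w = w := by
  obtain ⟨hi, β, hβ, y, hy, hβy⟩ := Cfsg.Agent.H273.PiSpor.fix17 h
  have hpw : ∀ k : ℕ, (β ^ k) y = y := by
    intro k
    induction k with
    | zero => rfl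
    | succ k ih => rw [pow_succ, MulAut.mul_apply, hβy, ih]
  have heven : 2 ∣ orderOf β := by
    by_contra hno
    exact hβ (inner_of_odd hi (Nat.odd_iff.2 (by omega)))
  have hpos : 0 < orderOf β := orderOf_pos β
  obtain ⟨m, hm⟩ := heven
  have hm0 : m ≠ 0 := by rintro rfl; omega
  set x0 := β ^ m with hx0
  have h0 : orderOf x0 = 2 := by
    rw [hx0, orderOf_pow' β hm0, hm, Nat.gcd_eq_right (Dvd.intro_left 2 rfl)]
    exact Nat.mul_div_cancel _ (by omega)
  have h0o : x0 ∉ (MulAut.conj : K →* MulAut K).range := by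
    rintro ⟨s, hs⟩
    have h1 : s * y = y * s := by
      have h2 : MulAut.conj s y = y := by rw [hs]; exact hpw m
      have h3 : s * y * s⁻¹ = y := h2
      rwa [mul_inv_eq_iff_eq_mul] at h3
    have h2 := orderOf_dvd_natCard (⟨s, mem_centralizer_singleton_iff.2 h1⟩ : centralizer ({y} : Set K))
    rw [Subgroup.orderOf_mk, (Cfsg.Agent.H898.J3Cent.seventeen h hy).1] at h2
    have h3 : s ^ 17 = 1 := orderOf_dvd_iff_pow_eq_one.1 h2
    have h4 : x0 ^ 17 = 1 := by rw [← hs, ← map_pow, h3, map_one]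
    have h5 := orderOf_dvd_of_pow_eq_one h4
    rw [h0] at h5
    norm_num at h5
  obtain ⟨k, hk⟩ := one_class h h0 hx h0o hxo
  refine ⟨MulAut.conj k y, ?_, ?_⟩
  · rw [← hy]
    exact orderOf_injective (MulAut.conj k).toMonoidHom (MulAut.conj k).injective y
  · rw [hk]
    show (MulAut.conj k * x0 * (MulAut.conj k)⁻¹) (MulAut.conj k y) = _
    rw [cj_apply, hpw]

theorem exists_fix2 [Finite K] (h : Spor.IsoJ3 K) {x : MulAut K} (hx : orderOf x = 2) :
    ∃ t : K, orderOf t = 2 ∧ x t = t := by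
  obtain ⟨hcK, hM, hone, -⟩ := CpAutJThree.base h
  have f2 : Fact (Nat.Prime 2) := ⟨Nat.prime_two⟩
  obtain ⟨t, ht⟩ := exists_prime_orderOf_dvd_card' (G := K) 2 (by rw [hcK]; norm_num)
  have hidx : ¬ 2 ∣ (centralizer ({t} : Set K)).index := by
    have h1 := (centralizer ({t} : Set K)).card_mul_index
    rw [(hM t ht).2.1, hcK] at h1
    omega
  obtain ⟨a, ha⟩ := Cfsg.Agent.H209.PiSpor.exists_cj_fix Nat.prime_two hx
    (hone t (x t) ht (by rw [← ht]; exact orderOf_injective x.toMonoidHom x.injective t)) hidx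
  refine ⟨a⁻¹ * t * a, ?_, ?_⟩
  · rw [← ht, show a⁻¹ * t * a = MulAut.conj a⁻¹ t by rw [MulAut.conj_apply, inv_inv]]
    exact orderOf_injective (MulAut.conj a⁻¹).toMonoidHom (MulAut.conj a⁻¹).injective t
  · unfold Cfsg.Agent.H216.Pi.cj at ha
    have h1 : MulAut.conj a (x ((MulAut.conj a)⁻¹ t)) = t := ha
    have h2 : (MulAut.conj a)⁻¹ t = a⁻¹ * t * a := by
      rw [← map_inv, MulAut.conj_apply, inv_inv]
    rw [h2, MulAut.conj_apply, mul_inv_eq_iff_eq_mul] at h1
    calc x (a⁻¹ * t * a) = a⁻¹ * (a * x (a⁻¹ * t * a)) := by group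
      _ = a⁻¹ * t * a := by rw [h1]; group

/-- the group generated by the conjugates of `y` under the fixed points of `x` -/
def Yc (x : MulAut K) (y : K) : Subgroup K := closure {w | ∃ n ∈ fx x, w = n * y * n⁻¹}

theorem Yc_le {x : MulAut K} {y : K} (hy : x y = y) : Yc x y ≤ fx x := by
  rw [Yc, closure_le]
  rintro _ ⟨n, hn, rfl⟩
  exact mul_mem (mul_mem hn hy) (inv_mem hn)

theorem Yc_conj {x : MulAut K} {y n u : K} (hn : n ∈ fx x) (hu : u ∈ Yc x y) : n * u * n⁻¹ ∈ Yc x y := by
  unfold Yc at hu ⊢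
  refine closure_induction (p := fun u _ => n * u * n⁻¹ ∈ closure {w | ∃ n ∈ fx x, w = n * y * n⁻¹}) ?_ ?_ ?_ ?_ hu
  · rintro _ ⟨m, hm, rfl⟩
    exact subset_closure ⟨n * m, mul_mem hn hm, by group⟩
  · rw [mul_one, mul_inv_cancel]; exact one_mem _
  · intro a b _ _ ha hb
    have e : n * (a * b) * n⁻¹ = (n * a * n⁻¹) * (n * b * n⁻¹) := by group
    rw [e]
    exact mul_mem ha hb
  · intro a _ ha
    have e : n * a⁻¹ * n⁻¹ = (n * a * n⁻¹)⁻¹ := by group
    rw [e]
    exact inv_mem ha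

/-- **the closure contains an involution** -/
theorem exists_two [Finite K] (h : Spor.IsoJ3 K) {x : MulAut K} (hx : orderOf x = 2)
    (hxo : x ∉ (MulAut.conj : K →* MulAut K).range) {y : K} (hy : y ≠ 1) (hxy : x y = y) :
    ∃ t : K, orderOf t = 2 ∧ x t = t ∧ t ∈ Yc x y := by
  have hxx : x * x = 1 := by rw [← pow_two, ← hx, pow_orderOf_eq_one]
  have f2 : Fact (Nat.Prime 2) := ⟨Nat.prime_two⟩
  have hyY : y ∈ Yc x y := subset_closure ⟨1, one_mem _, by group⟩
  by_cases h2 : 2 ∣ Nat.card (Yc x y)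
  · obtain ⟨t, ht⟩ := exists_prime_orderOf_dvd_card' (G := Yc x y) 2 h2
    exact ⟨t, by rw [Subgroup.orderOf_coe, ht], Yc_le hxy t.2, t.2⟩
  exfalso
  obtain ⟨w, hw, hxw⟩ := exists_fix17 h hx hxo
  by_cases h17 : 17 ∣ Nat.card (Yc x y)
  · obtain ⟨t, ht, hxt⟩ := exists_fix2 h hx
    have o := ot_of h hxx hxo ht hxt
    obtain ⟨a, b, ha, hb, hab⟩ := o.pair
    have h3 := frat17 h (Yc_le hxy) (fun n hn u hu => Yc_conj hn hu) h17 ha hb hab
    apply h2
    rw [← ht, show orderOf t = orderOf (⟨t, h3⟩ : Yc x y) from (Subgroup.orderOf_mk _ _).symm]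
    exact orderOf_dvd_natCard _
  · have h3 := odd17 h hw h2 h17 (fun u hu => Yc_conj hxw hu)
    rw [h3, mem_bot] at hyY
    exact hy hyY

/-- **an outer involution and an element of odd prime order** -/
theorem dead_outer [Finite K] (h : Spor.IsoJ3 K) (hS : IsSimpleGroup K) (hSn : ¬ IsMulCommutative K) {x : MulAut K}
    (hx : orderOf x = 2) (hxo : x ∉ (MulAut.conj : K →* MulAut K).range) {y : K} (hy : y ≠ 1) (hxy : x y = y) :
    Dead (MulAut.conj : K →* MulAut K).range x (MulAut.conj y) := by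
  have hxx : x * x = 1 := by rw [← pow_two, ← hx, pow_orderOf_eq_one]
  obtain ⟨t, ht, hxt, htY⟩ := exists_two h hx hxo hy hxy
  refine dead_mv (w := MulAut.conj t) ?_ (dead_out hS hSn hxx (ot_of h hxx hxo ht hxt))
  have h1 : (Yc x y).map (MulAut.conj : K →* MulAut K) ≤
      closure {w | ∃ n ∈ (MulAut.conj : K →* MulAut K).range, n * x = x * n ∧ w = n * MulAut.conj y * n⁻¹} := by
    unfold Yc
    rw [MonoidHom.map_closure, closure_le]
    rintro _ ⟨_, ⟨n, hn, rfl⟩, rfl⟩
    refine subset_closure ⟨MulAut.conj n, ⟨n, rfl⟩, ?_, by rw [map_mul, map_mul, map_inv]⟩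
    ext a
    show n * x a * n⁻¹ = x (n * a * n⁻¹)
    rw [map_mul, map_mul, map_inv, show x n = n from hn]
  exact h1 ⟨t, htY, rfl⟩

end fixed

section final

set_option synthInstance.maxHeartbeats 200000 in
set_option synthInstance.maxSize 1000 in
theorem perm_15 : ∀ σ τ : Equiv.Perm (Fin 5), σ ^ 3 = 1 → τ ^ 5 = 1 → σ * τ = τ * σ → σ = 1 ∨ τ = 1 := by decide +kernel

/-- no elements of order 30 in `J₃` -/
theorem no30 {K : Type*} [Group K] {t a b : K} (hM : HasModel t) (ha : orderOf a = 3) (hb : orderOf b = 5)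
    (hab : a * b = b * a) (hta : t * a = a * t) (htb : t * b = b * t) : False := by
  obtain ⟨ht, hC, Q, v, ρ, M⟩ := hM
  set a' : centralizer ({t} : Set K) := ⟨a, mem_centralizer_singleton_iff.2 hta.symm⟩ with ha'
  set b' : centralizer ({t} : Set K) := ⟨b, mem_centralizer_singleton_iff.2 htb.symm⟩ with hb'
  have oa : orderOf a' = 3 := by rw [← ha]; exact Subgroup.orderOf_mk _ _
  have ob : orderOf b' = 5 := by rw [← hb]; exact Subgroup.orderOf_mk _ _
  have h7 : ∀ (c : centralizer ({t} : Set K)) (k : ℕ), (ρ c ^ k).σ = (ρ c).σ ^ k := by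
    intro c k
    induction k with
    | zero => rfl
    | succ k ih => rw [pow_succ, pow_succ, mul_σ, ih]
  have h3 : (ρ a').σ ^ 3 = 1 := by
    have h8 : a' ^ 3 = 1 := by rw [← oa]; exact pow_orderOf_eq_one a'
    rw [← h7, ← map_pow, h8, map_one]; rfl
  have h5 : (ρ b').σ ^ 5 = 1 := by
    have h8 : b' ^ 5 = 1 := by rw [← ob]; exact pow_orderOf_eq_one b'
    rw [← h7, ← map_pow, h8, map_one]; rfl
  have hc : (ρ a').σ * (ρ b').σ = (ρ b').σ * (ρ a').σ := by
    have h8 : a' * b' = b' * a' := Subtype.ext hab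
    rw [← mul_σ, ← map_mul, h8, map_mul, mul_σ]
  rcases perm_15 _ _ h3 h5 hc with h | h
  · exact exists_moved M (by norm_num) (by norm_num) oa h
  · exact exists_moved M (by norm_num) (by norm_num) ob h

/-- an involutory automorphism fixing `y` fixes an involution commuting with `y` if `|C(y)|` is even -/
theorem exists_two_fix {K : Type*} [Group K] [Finite K] {x : MulAut K} (hx : x * x = 1) {y : K} (hxy : x y = y)
    (hc : 2 ∣ Nat.card (centralizer ({y} : Set K))) : ∃ t : K, orderOf t = 2 ∧ x t = t ∧ t * y = y * t := by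
  classical
  have f2 : Fact (Nat.Prime 2) := ⟨Nat.prime_two⟩
  let C := centralizer ({y} : Set K)
  have := Fintype.ofFinite C
  let f : Function.End C := fun u => u⁻¹
  have h1 := Equiv.Perm.card_fixedPoints_modEq (f := f) (p := 2) (n := 1) (by
    rw [pow_one, pow_two]
    funext u
    exact inv_inv u)
  let α := {t : K // t * t = 1 ∧ t * y = y * t}
  have := Fintype.ofFinite α
  have hxx : ∀ a, x (x a) = a := fun a => by rw [← MulAut.mul_apply, hx]; rfl
  let f' : Function.End α := fun u => ⟨x u.1, by rw [← map_mul, u.2.1, map_one], by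
    have h2 := congrArg x u.2.2
    rwa [map_mul, map_mul, hxy] at h2⟩
  have h2 := Equiv.Perm.card_fixedPoints_modEq (f := f') (p := 2) (n := 1) (by
    rw [pow_one, pow_two]
    funext u
    exact Subtype.ext (hxx u.1))
  have e : f.fixedPoints ≃ α :=
    { toFun := fun u => ⟨u.1.1, by
        have h3 : (u.1)⁻¹ = u.1 := u.2
        have h4 : u.1 * u.1 = 1 := by
          nth_rewrite 1 [← h3]
          rw [inv_mul_cancel]
        exact congrArg Subtype.val h4, mem_centralizer_singleton_iff.1 u.1.2⟩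
      invFun := fun u => ⟨⟨u.1, mem_centralizer_singleton_iff.2 u.2.2⟩, Subtype.ext (by
        show (u.1)⁻¹ = u.1
        exact inv_eq_of_mul_eq_one_left u.2.1)⟩
      left_inv := fun u => rfl
      right_inv := fun u => rfl }
  rw [← Nat.card_eq_fintype_card (α := C)] at h1
  have h3 : Fintype.card f.fixedPoints = Fintype.card α := Fintype.card_congr e
  rw [h3] at h1
  have h4 : 2 ∣ Fintype.card f'.fixedPoints := by
    have h5 : Nat.card C ≡ Fintype.card f'.fixedPoints [MOD 2] := h1.trans h2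
    have h6 : Nat.card C % 2 = 0 := Nat.mod_eq_zero_of_dvd hc
    rw [Nat.ModEq, h6] at h5
    exact Nat.dvd_of_mod_eq_zero h5.symm
  let u1 : f'.fixedPoints := ⟨⟨1, by rw [one_mul], by rw [one_mul, mul_one]⟩, Subtype.ext (map_one x)⟩
  have h5 : 1 < Fintype.card f'.fixedPoints := by
    have h6 : 0 < Fintype.card f'.fixedPoints := Fintype.card_pos_iff.2 ⟨u1⟩
    omega
  obtain ⟨u, hu⟩ := Fintype.exists_ne_of_one_lt_card h5 u1
  refine ⟨u.1.1, ?_, congrArg Subtype.val u.2, u.1.2.2⟩
  apply orderOf_eq_prime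
  · rw [pow_two, u.1.2.1]
  · intro h6
    apply hu
    apply Subtype.ext
    exact Subtype.ext h6

variable {T : Type} [Group T] [Finite T]

/-- commuting elements of different odd prime orders have orders 3, 5 -/
theorem odd_pair (h : Spor.IsoJ3 T) {p q : ℕ} (hp : p.Prime) (hq : q.Prime) (hp2 : p ≠ 2) (hq2 : q ≠ 2) (hpq : p ≠ q)
    {a b : T} (ha : orderOf a = p) (hb : orderOf b = q) (hab : a * b = b * a) : (p = 3 ∧ q = 5) ∨ (p = 5 ∧ q = 3) := by
  obtain ⟨-, hcK, -⟩ := Cfsg.Agent.H898.J3Cent.base h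
  have key : ∀ {p q : ℕ} (_ : p.Prime) (_ : q.Prime) (_ : p ≠ 2) (_ : p ≠ q) {a b : T} (_ : orderOf a = p)
      (_ : orderOf b = q) (_ : a * b = b * a), p = 3 ∨ p = 5 := by
    intro p q hp hq hp2 hpq a b ha hb hab
    have hd : p ∣ 50232960 := by
      rw [← hcK, ← ha]; exact orderOf_dvd_natCard a
    have hb' : q ∣ Nat.card (centralizer ({a} : Set T)) := by
      rw [← hb, ← Subgroup.orderOf_mk b (mem_centralizer_singleton_iff.2 hab.symm : b ∈ centralizer ({a} : Set T))]
      exact orderOf_dvd_natCard _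
    rcases Cfsg.Agent.H898.J3Cent.prime_dvd_card hp hd with h | h | h | h | h
    · exact absurd h hp2
    · exact Or.inl h
    · exact Or.inr h
    · exfalso
      rw [(Cfsg.Agent.H898.J3Cent.seventeen ‹_› (ha.trans h)).1] at hb'
      exact hpq (h.trans ((Nat.prime_dvd_prime_iff_eq hq (by norm_num)).1 hb').symm)
    · exfalso
      rw [Cfsg.Agent.H898.J3Cent.card_nineteen ‹_› (ha.trans h)] at hb'
      exact hpq (h.trans ((Nat.prime_dvd_prime_iff_eq hq (by norm_num)).1 hb').symm)
  have h1 := key hp hq hp2 hpq ha hb hab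
  have h2 := key hq hp hq2 (Ne.symm hpq) hb ha hab.symm
  omega

/-- **elements of orders 3 and 5** -/
theorem dead_odd (h : Spor.IsoJ3 T) (hS : IsSimpleGroup T) (hSn : ¬ IsMulCommutative T) {a b : T} (ha : orderOf a = 3)
    (hb : orderOf b = 5) (hab : a * b = b * a) : Dead (⊤ : Subgroup T) a b := by
  obtain ⟨-, hcK, hM⟩ := Cfsg.Agent.H898.J3Cent.base h
  have hbC : b ∈ centralizer ({a} : Set T) := mem_centralizer_singleton_iff.2 hab.symm
  set b' : centralizer ({a} : Set T) := ⟨b, hbC⟩ with hb'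
  have hbo : orderOf b' = 5 := by rw [← hb]; exact Subgroup.orderOf_mk _ _
  have h5 : 5 ∣ Nat.card (centralizer ({a} : Set T)) := by rw [← hbo]; exact orderOf_dvd_natCard _
  have hC : Nat.card (centralizer ({a} : Set T)) = 1080 := by
    rcases Cfsg.Agent.H305.OddJ3.cent_three h ha with h1 | h1
    · exact h1
    · exfalso
      have h2 := h5.trans h1
      norm_num at h2
  have hodd : ¬ 2 ∣ Nat.card (centralizer ({b'} : Set (centralizer ({a} : Set T)))) := by
    intro hd
    have f2 : Fact (Nat.Prime 2) := ⟨Nat.prime_two⟩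
    obtain ⟨t, ht⟩ := exists_prime_orderOf_dvd_card' 2 hd
    have h1 : orderOf ((t : centralizer ({a} : Set T)) : T) = 2 := by
      rw [Subgroup.orderOf_coe, Subgroup.orderOf_coe, ht]
    have h2 := mem_centralizer_singleton_iff.1 t.1.2
    have h3 := congrArg Subtype.val (mem_centralizer_singleton_iff.1 t.2)
    exact no30 (hM _ h1) ha hb hab h2 h3
  have h1 := Cfsg.Agent.H31.RC.Spor.frat_even (C := centralizer ({a} : Set T)) (q := 5) (k := 3) (by norm_num) hbo
    (by rw [hC]; norm_num) (by rw [hC]; norm_num) (by norm_num) hodd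
  have f2 : Fact (Nat.Prime 2) := ⟨Nat.prime_two⟩
  obtain ⟨t, ht⟩ := exists_prime_orderOf_dvd_card' 2 h1
  have ht' : orderOf ((t : centralizer ({a} : Set T)) : T) = 2 := by rw [Subgroup.orderOf_coe, Subgroup.orderOf_coe, ht]
  have hta : ((t : centralizer ({a} : Set T)) : T) * a = a * (t : centralizer ({a} : Set T)) :=
    mem_centralizer_singleton_iff.1 t.1.2
  refine dead_mv (w := ((t : centralizer ({a} : Set T)) : T)) ?_
    (dead_two hS hSn (hM _ ht') (r := 3) (by norm_num) (by norm_num) ha hta).symm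
  have h2 : (normalClosure ({b'} : Set (centralizer ({a} : Set T)))).map (centralizer ({a} : Set T)).subtype ≤
      closure {z | ∃ n ∈ (⊤ : Subgroup T), n * a = a * n ∧ z = n * b * n⁻¹} := by
    rw [normalClosure, MonoidHom.map_closure, closure_le]
    rintro _ ⟨w, hw, rfl⟩
    obtain ⟨u, hu, hw⟩ := Group.mem_conjugatesOfSet_iff.1 hw
    rw [Set.mem_singleton_iff] at hu
    subst hu
    obtain ⟨c, hc⟩ := isConj_iff.1 hw
    refine subset_closure ⟨(c : T), mem_top _, mem_centralizer_singleton_iff.1 c.2, ?_⟩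
    rw [← hc]
    rfl
  exact h2 ⟨_, t.2, rfl⟩

/-- **The row `J₃` of S3509.** -/
theorem rc_j3 (h : Spor.IsoJ3 T) : RC T := by
  obtain ⟨hS, hcK, hM⟩ := Cfsg.Agent.H898.J3Cent.base h
  have hSn : ¬ IsMulCommutative T := Cfsg.Agent.H273.PiSpor.not_comm hS hcK (by norm_num)
  have hinj := conj_injective hS hSn
  intro g
  obtain ⟨m, hm⟩ : ∃ m, m = orderOf g := ⟨_, rfl⟩
  have hm0 : m ≠ 0 := by rw [hm]; exact (orderOf_pos g).ne'
  have hord : ∀ p : ℕ, p.Prime → p ∣ m → orderOf (g ^ (m / p)) = p := by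
    intro p hp hd
    rw [orderOf_pow' g (Nat.div_pos (Nat.le_of_dvd (Nat.pos_of_ne_zero hm0) hd) hp.pos).ne', ← hm,
      Nat.gcd_eq_right (Nat.div_dvd_of_dvd hd), Nat.div_div_self hd hm0]
  have hcm : ∀ p q : ℕ, g ^ (m / p) * g ^ (m / q) = g ^ (m / q) * g ^ (m / p) := fun p q =>
    (Commute.pow_pow_self g _ _)
  -- the odd primes
  have hinn : ∀ p : ℕ, p.Prime → p ≠ 2 → p ∣ m → ∃ y : T, orderOf y = p ∧ g ^ (m / p) = MulAut.conj y := by
    intro p hp hp2 hd
    obtain ⟨y, hy⟩ := CpAutJThree.autInner h hp hp2 _ (hord p hp hd)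
    refine ⟨y, ?_, hy⟩
    rw [← hord p hp hd, hy]
    exact (orderOf_injective _ hinj y).symm
  have hcomm : ∀ {a b : T}, MulAut.conj a * MulAut.conj b = MulAut.conj b * MulAut.conj a → a * b = b * a := by
    intro a b hab
    rw [← map_mul, ← map_mul] at hab
    exact hinj hab
  have hfix : ∀ {x : MulAut T} {b : T}, x * MulAut.conj b = MulAut.conj b * x → x b = b := by
    intro x b hxb
    apply hinj
    have h2 : MulAut.conj (x b) = x * MulAut.conj b * x⁻¹ := by
      ext t
      simp [MulAut.conj_apply]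
    rw [h2, hxb]
    group
  have hodd : ∀ p q : ℕ, p.Prime → q.Prime → p ≠ 2 → q ≠ 2 → p ≠ q → p ∣ m → q ∣ m → (p = 3 ∧ q = 5) ∨ (p = 5 ∧ q = 3) := by
    intro p q hp hq hp2 hq2 hpq hpd hqd
    obtain ⟨a, ha, ha'⟩ := hinn p hp hp2 hpd
    obtain ⟨b, hb, hb'⟩ := hinn q hq hq2 hqd
    refine odd_pair h hp hq hp2 hq2 hpq ha hb (hcomm ?_)
    rw [← ha', ← hb']
    exact hcm p q
  -- no elements of order 30
  have h30 : 2 ∣ m → 3 ∣ m → 5 ∣ m → False := by
    intro h2 h3 h5
    obtain ⟨a, ha, ha'⟩ := hinn 3 (by norm_num) (by norm_num) h3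
    obtain ⟨b, hb, hb'⟩ := hinn 5 (by norm_num) (by norm_num) h5
    have hab : a * b = b * a := hcomm (by rw [← ha', ← hb']; exact hcm 3 5)
    have hx2 := hord 2 Nat.prime_two h2
    have hxa := hcm 2 3
    have hxb := hcm 2 5
    rw [ha'] at hxa
    rw [hb'] at hxb
    by_cases hin : g ^ (m / 2) ∈ (MulAut.conj : T →* MulAut T).range
    · obtain ⟨t, ht⟩ := hin
      rw [← ht] at hxa hxb hx2
      rw [orderOf_injective _ hinj t] at hx2
      exact no30 (hM t hx2) ha hb hab (hcomm hxa) (hcomm hxb)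
    · have hxx : g ^ (m / 2) * g ^ (m / 2) = 1 := by
        have h6 := pow_orderOf_eq_one (g ^ (m / 2))
        rwa [hx2, pow_two] at h6
      obtain ⟨t, ht, hxt, hty⟩ := exists_two_fix hxx (hfix hxb) (by
        rw [(Cfsg.Agent.H296.JT.cn5 h hb).1]; norm_num)
      exact (ot_of h hxx hin ht hxt).five b hty.symm hb (hfix hxb)
  by_cases h2 : 2 ∣ m
  · by_cases hp : ∃ p : ℕ, p.Prime ∧ p ≠ 2 ∧ p ∣ m
    · obtain ⟨p, hp, hp2, hpd⟩ := hp
      refine rce_of_dead hm.symm hm0 h2 hpd ?_ ?_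
      · intro r hr hrm
        by_contra hcon
        push Not at hcon
        rcases hodd r p hr hp hcon.1 hp2 hcon.2 hrm hpd with ⟨rfl, rfl⟩ | ⟨rfl, rfl⟩
        · exact h30 h2 hrm hpd
        · exact h30 h2 hpd hrm
      · obtain ⟨b, hb, hb'⟩ := hinn p hp hp2 hpd
        have hx2 := hord 2 Nat.prime_two h2
        have hxb := hcm 2 p
        rw [hb'] at hxb ⊢
        by_cases hin : g ^ (m / 2) ∈ (MulAut.conj : T →* MulAut T).range
        · obtain ⟨t, ht⟩ := hin
          rw [← ht] at hxb hx2 ⊢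
          rw [orderOf_injective _ hinj t] at hx2
          exact (dead_two hS hSn (hM t hx2) hp hp2 hb (hcomm hxb)).inner
        · exact dead_outer h hS hSn hx2 hin (ne_one_of_order hb hp.one_lt.ne') (hfix hxb)
    · push Not at hp
      refine rce_of_prime_pow hS g Nat.prime_two (k := m.primeFactorsList.length) ?_
      rw [← hm]
      refine Nat.eq_prime_pow_of_unique_prime_dvd hm0 ?_
      intro d hd hdm
      by_contra hne
      exact hp d hd hne hdm
  · by_cases h1 : m = 1
    · exact rce_of_prime_pow hS g Nat.prime_two (k := 0) (by rw [← hm, h1, pow_zero])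
    obtain ⟨p, hp, hpd⟩ := Nat.exists_prime_and_dvd h1
    have hne2 : ∀ q : ℕ, q ∣ m → q ≠ 2 := by
      rintro q hq rfl
      exact h2 hq
    by_cases hq : ∃ q : ℕ, q.Prime ∧ q ≠ p ∧ q ∣ m
    · obtain ⟨q, hq, hqp, hqd⟩ := hq
      have h35 : 3 ∣ m ∧ 5 ∣ m := by
        rcases hodd p q hp hq (hne2 p hpd) (hne2 q hqd) (Ne.symm hqp) hpd hqd with ⟨rfl, rfl⟩ | ⟨rfl, rfl⟩
        · exact ⟨hpd, hqd⟩
        · exact ⟨hqd, hpd⟩
      obtain ⟨h3, h5⟩ := h35
      obtain ⟨a, ha, ha'⟩ := hinn 3 (by norm_num) (by norm_num) h3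
      obtain ⟨b, hb, hb'⟩ := hinn 5 (by norm_num) (by norm_num) h5
      have hab : a * b = b * a := hcomm (by rw [← ha', ← hb']; exact hcm 3 5)
      refine rce_of_dead hm.symm hm0 h3 h5 ?_ ?_
      · intro r hr hrm
        by_cases hr3 : r = 3
        · exact Or.inl hr3
        · rcases hodd r 3 hr (by norm_num) (hne2 r hrm) (by norm_num) hr3 hrm h3 with ⟨h, h'⟩ | ⟨h, h'⟩
          · omega
          · exact Or.inr h
      · rw [ha', hb']
        exact (dead_odd h hS hSn ha hb hab).inner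
    · push Not at hq
      refine rce_of_prime_pow hS g hp (k := m.primeFactorsList.length) ?_
      rw [← hm]
      refine Nat.eq_prime_pow_of_unique_prime_dvd hm0 ?_
      intro d hd hdm
      by_contra hne
      exact hq d hd hne hdm

end final

end Cfsg.Agent.H388.RG.JThree
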